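import Groth.Agent.L19.SpecSub.LineInUnip
import Groth.Agent.L25.GaPts
import Groth.Agent.L26.AbDual.HopfEtale
import Groth.Agent.L08.TorusQuot.Affine

/-!
# Unipotent groups contain additive groups
-/

set_option autoImplicit false
set_option backward.isDefEq.respectTransparency.types false
set_option linter.style.haveILetI false
set_option linter.unusedSectionVars false

universe u

open CategoryTheory CategoryTheory.Limits MonoidalCategory CartesianMonoidalCategory MonObj GrpObj AlgebraicGeometry
open TensorProduct WithConv Groth.L08 Groth.L01.MultConj Groth.L19.SpecSub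
open Groth.L25.Bridge (P exists_hopf)
open Groth.L08.TorusQuot (sp sp_left isMonHom_sp)

noncomputable section

namespace Groth.L07.NoGaPow

variable {k : Type u} [Field k]

/-- The additive group in symmetric algebra form. -/
theorem exists_iso_symGa : ∃ e : P k (SymmetricAlgebra k k) ≅ Red.Ga (Spec (CommRingCat.of k)), IsMonHom e.hom := by
  let s : SymmetricAlgebra k k := SymmetricAlgebra.ι k k 1
  let g : P k (SymmetricAlgebra k k) ⟶ Red.Ga (Spec (CommRingCat.of k)) :=
    Groth.L25.GaPts.ptOfElt (Groth.Agent.HopfEtale.fn (k := k) _ s)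
  haveI hg : IsMonHom g :=
    (Groth.Agent.HopfEtale.isMonHom_ga_iff _ g s (Groth.L25.GaPts.gaFn_ptOfElt _)).2 (SymmetricAlgebra.comul_ι k k 1)
  let G := Red.Ga (Spec (CommRingCat.of k))
  let str : k →+* Γ(G.left, ⊤) := ((Scheme.ΓSpecIso (CommRingCat.of k)).inv ≫ G.hom.appTop).hom
  letI : Algebra k Γ(G.left, ⊤) := str.toAlgebra
  let v : Γ(G.left, ⊤) := Red.gaFn (𝟙 G)
  let φ : SymmetricAlgebra k k →ₐ[k] Γ(G.left, ⊤) := Groth.L25.GaPts.liftGen v
  let h : G ⟶ P k (SymmetricAlgebra k k) := Over.homMk (G.left.toSpecΓ ≫ Spec.map (CommRingCat.ofHom φ.toRingHom)) (by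
    refine ext_of_isAffine ?_
    show ((G.left.toSpecΓ ≫ Spec.map _) ≫ Spec.map (CommRingCat.ofHom (algebraMap k (SymmetricAlgebra k k)))).appTop = _
    rw [Category.assoc, ← Spec.map_comp, ← CommRingCat.ofHom_comp,
      show CommRingCat.ofHom (φ.toRingHom.comp (algebraMap k (SymmetricAlgebra k k))) = CommRingCat.ofHom str from
        congrArg CommRingCat.ofHom φ.comp_algebraMap, Scheme.Hom.comp_appTop,
      Scheme.toSpecΓ_appTop, Scheme.ΓSpecIso_naturality]
    show (Scheme.ΓSpecIso (CommRingCat.of k)).hom ≫ ((Scheme.ΓSpecIso (CommRingCat.of k)).inv ≫ G.hom.appTop) = _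
    rw [Iso.hom_inv_id_assoc])
  have hs : h.left.appTop (Groth.Agent.HopfEtale.fn (k := k) _ s) = v := by
    show (G.left.toSpecΓ ≫ Spec.map (CommRingCat.ofHom φ.toRingHom)).appTop
      ((Scheme.ΓSpecIso (CommRingCat.of (SymmetricAlgebra k k))).inv s) = v
    rw [Scheme.Hom.comp_appTop, Scheme.toSpecΓ_appTop, Scheme.ΓSpecIso_naturality]
    show φ ((Scheme.ΓSpecIso (CommRingCat.of (SymmetricAlgebra k k))).hom
      ((Scheme.ΓSpecIso (CommRingCat.of (SymmetricAlgebra k k))).inv s)) = v
    rw [Iso.inv_hom_id_apply]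
    exact Groth.L25.GaPts.liftGen_gen v
  have hhg : h ≫ g = 𝟙 G := by
    refine Groth.L25.GaPts.gaFn_injective ?_
    show Red.gaFn (h ≫ g) = Red.gaFn (𝟙 G)
    rw [Groth.L25.GaPts.gaFn_comp, Groth.L25.GaPts.gaFn_ptOfElt]
    exact hs
  have hgh : g ≫ h = 𝟙 _ := by
    refine Over.OverMorphism.ext (ext_of_isAffine ?_)
    rw [Over.comp_left, Scheme.Hom.comp_appTop, Over.id_left, Scheme.Hom.id_appTop]
    let inv₀ := (Scheme.ΓSpecIso (CommRingCat.of (SymmetricAlgebra k k))).inv
    let F : CommRingCat.of (SymmetricAlgebra k k) ⟶ Γ((P k (SymmetricAlgebra k k)).left, ⊤) :=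
      inv₀ ≫ h.left.appTop ≫ g.left.appTop
    suffices F = inv₀ by
      exact (cancel_epi inv₀).1 (this.trans (Category.comp_id _).symm)
    letI : Algebra k Γ((P k (SymmetricAlgebra k k)).left, ⊤) :=
      (inv₀.hom.comp (algebraMap k (SymmetricAlgebra k k))).toAlgebra
    have hc : ∀ c, F.hom (algebraMap k _ c) = inv₀.hom (algebraMap k _ c) := by
      intro c
      have h1 : (g ≫ h).left ≫ (P k (SymmetricAlgebra k k)).hom = (P k (SymmetricAlgebra k k)).hom := Over.w _
      have h2 := congrArg (fun m => (Scheme.ΓSpecIso (CommRingCat.of k)).inv ≫ Scheme.Hom.appTop m) h1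
      simp only [Scheme.Hom.comp_appTop] at h2
      have h3 : (Scheme.ΓSpecIso (CommRingCat.of k)).inv ≫ (P k (SymmetricAlgebra k k)).hom.appTop =
          CommRingCat.ofHom (algebraMap k (SymmetricAlgebra k k)) ≫ inv₀ :=
        (Scheme.ΓSpecIso_inv_naturality _).symm
      rw [reassoc_of% h3, h3] at h2
      exact congrArg (fun m => m.hom c) h2
    let F₁ : SymmetricAlgebra k k →ₐ[k] Γ((P k (SymmetricAlgebra k k)).left, ⊤) := { F.hom with commutes' := hc }
    let F₂ : SymmetricAlgebra k k →ₐ[k] Γ((P k (SymmetricAlgebra k k)).left, ⊤) :=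
      { inv₀.hom with commutes' := fun _ => rfl }
    refine CommRingCat.hom_ext (congrArg AlgHom.toRingHom (Groth.L25.GaPts.algHom_ext_gen (F := F₁) (G := F₂) ?_))
    show g.left.appTop (h.left.appTop (Groth.Agent.HopfEtale.fn (k := k) _ s)) = Groth.Agent.HopfEtale.fn (k := k) _ s
    rw [hs, ← Groth.L25.GaPts.gaFn_comp, Category.comp_id, Groth.L25.GaPts.gaFn_ptOfElt]
  exact ⟨⟨g, h, hgh, hhg⟩, hg⟩

variable [IsAlgClosed k]

/-- A nontrivial connected unipotent Hopf algebra maps onto the symmetric algebra of a line. -/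
theorem exists_symHom (A : Type u) [CommRing A] [HopfAlgebra k A] [Algebra.FiniteType k A] [IsDomain A]
    (hU : HopfRep.IsUnipotent k A) (hne : RingHom.ker (Bialgebra.counitAlgHom k A) ≠ ⊥) :
    ∃ φ : A →ₐc[k] SymmetricAlgebra k k, Function.Surjective φ := by
  classical
  haveI : IsNoetherianRing A := Algebra.FiniteType.isNoetherianRing k A
  let S : Set (Ideal A) := {I | I.IsHopfIdeal k ∧ I.IsPrime ∧ I ≠ RingHom.ker (Bialgebra.counitAlgHom k A)}
  obtain ⟨I, ⟨hI, hIp, hIne⟩, hmax⟩ := set_has_maximal_iff_noetherian.2 inferInstance S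
    ⟨⊥, Groth.L01.Unip.isHopfIdeal_bot A, Ideal.isPrime_bot, fun h => hne h.symm⟩
  haveI := hI
  haveI := hIp
  let C := A ⧸ I
  let π : A →ₐc[k] C := Bialgebra.Quotient.mkBialgHom I
  have hπs : Function.Surjective π := Ideal.Quotient.mk_surjective
  haveI : Algebra.FiniteType k C :=
    Algebra.FiniteType.of_surjective (Ideal.Quotient.mkₐ k I) Ideal.Quotient.mk_surjective
  haveI : IsDomain C := Ideal.Quotient.isDomain I
  have hUC : HopfRep.IsUnipotent k C := (Groth.Agent.S5422.result k A).1 C π hπs hU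
  have hker : ∀ x, π x ∈ RingHom.ker (Bialgebra.counitAlgHom k C) ↔
      x ∈ RingHom.ker (Bialgebra.counitAlgHom k A) := fun x => by
    rw [RingHom.mem_ker, RingHom.mem_ker]
    exact Iff.rfl
  have hCne : RingHom.ker (Bialgebra.counitAlgHom k C) ≠ ⊥ := by
    intro h
    refine hIne (le_antisymm (fun x hx => ?_) fun x hx => ?_)
    · exact hI.toIsCoideal.counit_eq_zero hx
    · refine Ideal.Quotient.eq_zero_iff_mem.1 ?_
      have := (hker x).2 hx
      rwa [h, Ideal.mem_bot] at this
  haveI := Groth.L01.Unip.isDomain_tensor_self (k := k) (C := C)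
  obtain ⟨f, hf, hf0, hdom⟩ := exists_good (K := k) hUC hCne
  haveI := isHopfIdeal_span_prim hf
  have hspan : Ideal.span {f} = RingHom.ker (Bialgebra.counitAlgHom k C) := by
    by_contra hne'
    haveI : IsDomain (C ⧸ Ideal.span {f}) :=
      haveI := hdom
      MulEquiv.isDomain (k ⊗[k] (C ⧸ Ideal.span {f}))
        (Algebra.TensorProduct.lid k (C ⧸ Ideal.span {f})).symm.toMulEquiv
    haveI : (Ideal.span {f}).IsPrime := (Ideal.Quotient.isDomain_iff_prime _).1 inferInstance
    refine hmax ((Ideal.span {f}).comap (π : A →ₐ[k] C))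
      ⟨Groth.L01.UnipSplit.isHopfIdeal_comap π _, Ideal.comap_isPrime _ _, fun h => ?_⟩
      (lt_of_le_of_ne (fun x hx => ?_) fun h => ?_)
    · refine hne' ?_
      rw [← Ideal.map_comap_of_surjective (π : A →ₐ[k] C) hπs (Ideal.span {f}), h]
      refine le_antisymm (Ideal.map_le_iff_le_comap.2 fun x hx => (hker x).2 hx) fun y hy => ?_
      obtain ⟨x, rfl⟩ := hπs y
      exact Ideal.mem_map_of_mem _ ((hker x).1 hy)
    · rw [Ideal.mem_comap]
      show π x ∈ _
      rw [show π x = 0 from Ideal.Quotient.eq_zero_iff_mem.2 hx]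
      exact zero_mem _
    · obtain ⟨x, rfl⟩ := hπs f
      refine hf0 (Ideal.Quotient.eq_zero_iff_mem.2 ?_)
      rw [h]
      exact Ideal.mem_span_singleton_self _
  haveI : IsNoetherianRing C := Algebra.FiniteType.isNoetherianRing k C
  haveI hmC : (RingHom.ker (Bialgebra.counitAlgHom k C)).IsMaximal :=
    RingHom.ker_isMaximal_of_surjective _ fun c => ⟨algebraMap k C c, AlgHom.commutes _ c⟩
  have hdim : ringKrullDim C = 1 := by
    rw [← Groth.L08.HopfDim.height_eq_ringKrullDim k (RingHom.ker (Bialgebra.counitAlgHom k C))]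
    have hH : (RingHom.ker (Bialgebra.counitAlgHom k C)).height ≤ 1 := by
      rw [← hspan]
      refine le_trans (Ideal.height_le_spanFinrank _ (by rw [hspan]; exact RingHom.ker_ne_top _)) ?_
      exact_mod_cast (Submodule.spanFinrank_span_le_ncard_of_finite (Set.finite_singleton f)).trans (by simp)
    have h0 : (RingHom.ker (Bialgebra.counitAlgHom k C)).height ≠ 0 := ne_of_gt
      (lt_of_le_of_lt zero_le (Ideal.height_strict_mono_of_isPrime (I := (⊥ : Ideal C))
        (lt_of_le_of_ne bot_le (Ne.symm hCne))))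
    rw [le_antisymm hH (Order.one_le_iff_ne_zero.2 h0)]
    rfl
  rcases Groth.Agent.S7976.result k C
      (fun e he => (IsIdempotentElem.iff_eq_zero_or_one).1 he) hdim with ⟨⟨e⟩⟩ | ⟨⟨e⟩⟩
  · exfalso
    let t : MonoidAlgebra k (Multiplicative ℤ) := MonoidAlgebra.of k (Multiplicative ℤ) (Multiplicative.ofAdd 1)
    have ht : IsGroupLikeElem k t := MonoidAlgebra.isGroupLikeElem_of _
    have hne1 : t ≠ 1 := fun h => by
      have := (MonoidAlgebra.of_injective (R := k) (M := Multiplicative ℤ))
        (h.trans (map_one (MonoidAlgebra.of k (Multiplicative ℤ))).symm)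
      exact absurd this (by decide)
    have h1 := Groth.Agent.S2966.groupLike_eq_one hUC (ht.map e.symm)
    exact hne1 (e.symm.injective (h1.trans (map_one _).symm))
  · exact ⟨BialgHom.comp (e : C →ₐc[k] SymmetricAlgebra k k) π, e.surjective.comp hπs⟩

/-- A nontrivial connected smooth affine group without subtori over an algebraically closed field
contains the additive group as a closed subgroup. -/
theorem exists_ga_of_noSubtorus (U : Over (Spec (CommRingCat.of k))) [GrpObj U] [IsAffine U.left]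
    [Smooth U.hom] [ConnectedSpace U.left] (hns : Red.HasNoSubtorus k U) (hU : ¬ Red.IsTrivialGrp U) :
    ∃ f : Red.Ga (Spec (CommRingCat.of k)) ⟶ U, IsMonHom f ∧ IsClosedImmersion f.left := by
  haveI : IsAffineHom U.hom := isAffineHom_of_isAffine _
  obtain ⟨A, _, _, ⟨E⟩⟩ := exists_hopf (R := k) U
  have hiso : IsIso E.inv.hom.hom :=
    ⟨E.hom.hom.hom, congr($(E.inv_hom_id).hom.hom), congr($(E.hom_inv_id).hom.hom)⟩
  haveI : IsIso E.inv.hom.hom.left := inferInstanceAs (IsIso ((Over.forget _).map E.inv.hom.hom))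
  haveI : IsMonHom E.inv.hom.hom := E.inv.hom.isMonHom_hom
  haveI hsm : Smooth (P k A).hom := by
    rw [← Over.w E.inv.hom.hom]
    exact inferInstanceAs (Smooth (E.inv.hom.hom.left ≫ U.hom))
  haveI : Algebra.FiniteType k A := by
    have h : LocallyOfFiniteType (P k A).hom := inferInstance
    change LocallyOfFiniteType (Spec.map (CommRingCat.ofHom (algebraMap k A))) at h
    rw [HasRingHomProperty.Spec_iff (P := @LocallyOfFiniteType), CommRingCat.hom_ofHom,
      RingHom.finiteType_algebraMap] at h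
    exact h
  haveI : _root_.IsReduced A :=
    (affine_isReduced_iff (CommRingCat.of A)).1
      (@Groth.Agent.AV.isReduced_of_smooth_field k _ _ (Spec.map (CommRingCat.ofHom (algebraMap k A))) hsm)
  haveI : ConnectedSpace (P k A).left :=
    (Scheme.homeoOfIso (asIso E.inv.hom.hom.left)).symm.surjective.connectedSpace (Homeomorph.continuous _)
  haveI : ConnectedSpace (PrimeSpectrum A) := inferInstanceAs (ConnectedSpace (P k A).left)
  have hconn : ∀ e : A, IsIdempotentElem e → e = 0 ∨ e = 1 := fun e he => by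
    have hc : IsClopen (PrimeSpectrum.basicOpen e : Set (PrimeSpectrum A)) :=
      PrimeSpectrum.isClopen_iff.2 ⟨e, he, rfl⟩
    rcases isClopen_iff.1 hc with h | h
    · left
      exact (IsNilpotent.eq_zero ((PrimeSpectrum.basicOpen_eq_bot_iff e).1 (TopologicalSpace.Opens.ext h)))
    · right
      have hu : IsUnit e := by
        by_contra hne
        obtain ⟨m, hm, hem⟩ := exists_max_ideal_of_mem_nonunits (mem_nonunits_iff.2 hne)
        have : (⟨m, hm.isPrime⟩ : PrimeSpectrum A) ∈ PrimeSpectrum.basicOpen e := by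
          rw [← SetLike.mem_coe, h]; trivial
        exact this hem
      exact hu.mul_left_cancel (he.eq.trans (_root_.mul_one e).symm)
  have hdom : IsDomain (k ⊗[k] A) := by
    haveI : _root_.IsReduced (k ⊗[k] A) :=
      isReduced_of_injective (Algebra.TensorProduct.lid k A).toRingHom (Algebra.TensorProduct.lid k A).injective
    exact Groth.L01.MultConj.isDomain_of_connected hconn
  haveI : IsDomain A := MulEquiv.isDomain (k ⊗[k] A) (Algebra.TensorProduct.lid k A).symm.toMulEquiv
  have hns' : Red.HasNoSubtorus k (P k A) := fun T _ j _ _ hT => hns T (j ≫ E.inv.hom.hom) hT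
  have hunip := Groth.L24.Count.isUnipotent_of_noSubtorus (A := A) hconn hns'
  have hne : RingHom.ker (Bialgebra.counitAlgHom k A) ≠ ⊥ := by
    intro h
    refine hU ?_
    have hbij : Function.Bijective (algebraMap k A) := ⟨(algebraMap k A).injective, fun a =>
      ⟨Bialgebra.counitAlgHom k A a, by
        refine ((RingHom.injective_iff_ker_eq_bot _).2 h) ?_
        simp⟩⟩
    haveI : IsIso (CommRingCat.ofHom (algebraMap k A)) :=
      ((RingEquiv.ofBijective _ hbij).toCommRingCatIso).isIso_hom
    haveI : IsIso (P k A).hom := inferInstanceAs (IsIso (Spec.map (CommRingCat.ofHom (algebraMap k A))))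
    show IsIso U.hom
    have h2 : U.hom = inv E.inv.hom.hom.left ≫ (P k A).hom := by
      rw [IsIso.eq_inv_comp]; exact Over.w E.inv.hom.hom
    rw [h2]
    infer_instance
  obtain ⟨φ, hφ⟩ := exists_symHom A hunip hne
  obtain ⟨g, hg⟩ := exists_iso_symGa (k := k)
  haveI := hg
  haveI : IsMonHom (asIso g.hom).hom := hg
  haveI : IsMonHom g.inv := inferInstance
  haveI : IsMonHom (sp φ) := isMonHom_sp φ
  haveI : IsIso g.inv.left := inferInstanceAs (IsIso ((Over.forget _).map g.inv))
  haveI : IsClosedImmersion (sp φ).left := by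
    rw [sp_left]; exact IsClosedImmersion.spec_of_surjective _ hφ
  refine ⟨g.inv ≫ sp φ ≫ E.inv.hom.hom, inferInstance, ?_⟩
  rw [Over.comp_left, Over.comp_left]
  infer_instance

end Groth.L07.NoGaPow
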