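import Groth.Agent.L07.NoGaPow.GaInUnip
import Groth.Agent.L19.SpecSub.SabPow
import Groth.Agent.L19.AlgGrpBasic.Descent
import Groth.Agent.S14585
import Groth.Agent.S4141
import Groth.Agent.S8061
import Groth.Prelude.Def_SGA7IX

/-!
# Powers on commutative groups of unipotent rank zero
-/

set_option autoImplicit false
set_option backward.isDefEq.respectTransparency.types false
set_option linter.style.haveILetI false
set_option linter.unusedSectionVars false

universe u

open CategoryTheory CategoryTheory.Limits MonoidalCategory CartesianMonoidalCategory MonObj GrpObj AlgebraicGeometry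
open Groth.L19.SpecSub (IsSemiab)

noncomputable section

namespace Groth.L07.NoGaPow

variable {k : Type u} [Field k]

theorem isSemiab_of_noGa [IsAlgClosed k] (G : Over (Spec (CommRingCat.of k))) [GrpObj G] [Smooth G.hom]
    [QuasiCompact G.hom] [ConnectedSpace ↥G.left]
    (h : ∀ j : Red.Ga (Spec (CommRingCat.of k)) ⟶ G, IsMonHom j → IsClosedImmersion j.left → False) :
    IsSemiab G := by
  obtain ⟨L, _, l, Q, _, q, hl, hlc, hLa, hLs, hLc, -, hq, hqs, hqf, hker, hQp, hQs, hQc, -⟩ :=
    Groth.Agent.S4141.result k G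
  haveI := hl; haveI := hlc; haveI := hLa; haveI := hLs; haveI := hLc
  refine ⟨L, inferInstance, l, Q, inferInstance, q, hl, hlc,
    Groth.Agent.S8061.result k L ?_, hq, hqs, hqf, hker, hQp, hQs, hQc⟩
  intro U _ i _ hic hUs hUc hns
  by_contra hU
  haveI := hic; haveI := hUs; haveI := hUc
  haveI : IsAffine U.left := isAffine_of_isAffineHom i.left
  obtain ⟨f, hf, hfc⟩ := exists_ga_of_noSubtorus U hns hU
  haveI := hf; haveI := hfc
  exact h (f ≫ i ≫ l) inferInstance (by rw [Over.comp_left, Over.comp_left]; infer_instance)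

theorem surjective_pow (G : Over (Spec (CommRingCat.of k))) [GrpObj G] [IsCommMonObj G] [Smooth G.hom]
    [ConnectedSpace ↥G.left] (hG : SGA7.FibresUnipotentRankZero G) (n : ℕ) (hn : 0 < n) :
    Surjective ((𝟙 G : G ⟶ G) ^ n).left := by
  obtain ⟨s⟩ : Nonempty ↥(Spec (CommRingCat.of k)) := inferInstanceAs (Nonempty (PrimeSpectrum k))
  let Ω := AlgebraicClosure ((Spec (CommRingCat.of k)).residueField s)
  letI : Algebra k Ω := (Spec.preimage (Red.geomPt s)).hom.toAlgebra
  have ht : AbVar.ext k Ω = Red.geomPt s := Spec.map_preimage (Red.geomPt s)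
  haveI : IrreducibleSpace ↥G.left :=
    haveI := Groth.L08.Albanese.geometricallyIntegral_of_smooth G
    haveI : IsIntegral G.left := GeometricallyIntegral.isIntegral_of_subsingleton G.hom
    inferInstance
  haveI : CompactSpace ↥G.left := Groth.L25.Component.compactSpace G
  haveI : QuasiCompact G.hom := (quasiCompact_iff_compactSpace G.hom).2 inferInstance
  let t := AbVar.ext k Ω
  haveI : Smooth (Red.bc t G).hom := MorphismProperty.pullback_snd G.hom t ‹_›
  haveI : QuasiCompact (Red.bc t G).hom := MorphismProperty.pullback_snd G.hom t ‹_›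
  haveI : ConnectedSpace ↥(Red.bc t G).left := Groth.L08.ChevPerf.connectedSpace_bc G
  have key : ∀ j : Red.Ga (Spec (CommRingCat.of Ω)) ⟶ Red.bc t G, IsMonHom j → IsClosedImmersion j.left → False := by
    show ∀ j : Red.Ga (Spec (CommRingCat.of Ω)) ⟶ Red.bc (AbVar.ext k Ω) G, IsMonHom j → IsClosedImmersion j.left → False
    rw [ht]
    exact hG s
  have hs := (isSemiab_of_noGa (Red.bc t G) key).surjective_pow n hn
  have hmap : (Over.pullback t).map ((𝟙 G : G ⟶ G) ^ n) = (𝟙 (Red.bc t G) : Red.bc t G ⟶ Red.bc t G) ^ n :=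
    (((Over.pullback t).homMonoidHom (X := G) (M := G)).map_pow (𝟙 G) n).trans
      (congrArg (· ^ n) ((Over.pullback t).map_id G))
  haveI : Surjective ((Over.pullback t).map ((𝟙 G : G ⟶ G) ^ n)).left := by rw [hmap]; exact hs
  haveI : Surjective (pullback.fst G.hom t) :=
    MorphismProperty.pullback_fst _ _ (Groth.L08.ChevPerf.ext_props (k := k) (K := Ω)).1
  have w := (Groth.L08.Albanese.isPullback_bc_map (K := Ω) ((𝟙 G : G ⟶ G) ^ n)).w
  haveI : Surjective (pullback.fst G.hom t ≫ ((𝟙 G : G ⟶ G) ^ n).left) := by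
    rw [← w]; infer_instance
  exact Surjective.of_comp (pullback.fst G.hom t) _

/-- A homomorphism killing the `n`-torsion is divisible by `n`. -/
theorem exists_pow_eq (G : Over (Spec (CommRingCat.of k))) [GrpObj G] [IsCommMonObj G] [Smooth G.hom]
    [ConnectedSpace ↥G.left] (hG : SGA7.FibresUnipotentRankZero G) (n : ℕ) (hn : 0 < n) (f : G ⟶ G) [IsMonHom f]
    (h : ∀ (T : Over (Spec (CommRingCat.of k))) (x : T ⟶ G), x ^ n = 1 → x ≫ f = 1) :
    ∃ g : G ⟶ G, g ^ n = f ∧ IsMonHom g := by
  haveI := surjective_pow G hG n hn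
  haveI : IsMonHom ((𝟙 G : G ⟶ G) ^ n) := Groth.Agent.AV.Isogeny.isMonHom_pow n
  haveI : IsReduced G.left := Groth.Agent.AV.isReduced_of_smooth_field G.hom
  haveI : Flat ((𝟙 G : G ⟶ G) ^ n).left := Groth.L08.FlatHom.flat_of_surjective G G _
  haveI : QuasiCompact G.hom := by
    haveI := Groth.L08.Albanese.geometricallyIntegral_of_smooth G
    haveI : IsIntegral G.left := GeometricallyIntegral.isIntegral_of_subsingleton G.hom
    haveI : CompactSpace ↥G.left := Groth.L25.Component.compactSpace G
    exact (quasiCompact_iff_compactSpace G.hom).2 inferInstance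
  haveI := Groth.L08.AbelianGrp.quasiCompact_left ((𝟙 G : G ⟶ G) ^ n)
  have hp : ∀ {W : Over (Spec (CommRingCat.of k))} (a : W ⟶ G), a ≫ (𝟙 G : G ⟶ G) ^ n = a ^ n := fun a => by
    rw [MonObj.comp_pow, Category.comp_id]
  obtain ⟨g, hg, -⟩ := Groth.L19.AlgGrpBasic.existsUnique_desc ((𝟙 G : G ⟶ G) ^ n) f fun W a b e => by
    rw [hp, hp] at e
    have := h W (a * b⁻¹) (by rw [mul_pow, inv_pow, e, mul_inv_cancel])
    rw [MonObj.mul_comp, GrpObj.inv_comp] at this
    exact mul_inv_eq_one.1 this
  have hmul : IsMonHom g := by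
    refine Groth.L25.Bridge.isMonHom_of_mul g fun Y a b => ?_
    haveI := Groth.L19.AlgGrpBasic.epi_cover (S := Spec (CommRingCat.of k)) ((𝟙 G : G ⟶ G) ^ n)
    -- test on the flat cover
    have hfst : (fst G G * snd G G) ≫ g = (fst G G ≫ g) * (snd G G ≫ g) := by
      let p : G ⟶ G := (𝟙 G : G ⟶ G) ^ n
      haveI : Surjective (p ⊗ₘ p).left := by
        rw [tensorHom_def, Over.comp_left]
        haveI : Surjective (p ▷ G).left :=
          MorphismProperty.of_isPullback (P := @Surjective) (Groth.L19.AlgGrpBasic.isPullback_whiskerRight p G).flip ‹_›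
        haveI : Surjective (G ◁ p).left :=
          MorphismProperty.of_isPullback (P := @Surjective) (Groth.L19.AlgGrpBasic.isPullback_whiskerLeft G p).flip ‹_›
        infer_instance
      haveI : Flat (p ⊗ₘ p).left := by
        rw [tensorHom_def, Over.comp_left]
        haveI : Flat (p ▷ G).left :=
          MorphismProperty.of_isPullback (P := @Flat) (Groth.L19.AlgGrpBasic.isPullback_whiskerRight p G).flip ‹_›
        haveI : Flat (G ◁ p).left :=
          MorphismProperty.of_isPullback (P := @Flat) (Groth.L19.AlgGrpBasic.isPullback_whiskerLeft G p).flip ‹_›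
        infer_instance
      haveI : QuasiCompact (p ⊗ₘ p).left := by
        rw [tensorHom_def, Over.comp_left]
        haveI : QuasiCompact (p ▷ G).left :=
          MorphismProperty.of_isPullback (P := @QuasiCompact) (Groth.L19.AlgGrpBasic.isPullback_whiskerRight p G).flip ‹_›
        haveI : QuasiCompact (G ◁ p).left :=
          MorphismProperty.of_isPullback (P := @QuasiCompact) (Groth.L19.AlgGrpBasic.isPullback_whiskerLeft G p).flip ‹_›
        infer_instance
      haveI := Groth.L19.AlgGrpBasic.epi_cover (p ⊗ₘ p)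
      rw [← cancel_epi (p ⊗ₘ p), MonObj.comp_mul]
      simp only [← Category.assoc, MonObj.comp_mul, tensorHom_fst, tensorHom_snd]
      simp only [Category.assoc, show p ≫ g = f from hg]
      rw [← MonObj.mul_comp (fst G G) (snd G G) p, Category.assoc, show p ≫ g = f from hg, MonObj.mul_comp]
    have := congrArg (lift a b ≫ ·) hfst
    simpa [← Category.assoc, MonObj.comp_mul] using this
  haveI := hmul
  exact ⟨g, by rw [← hg, MonObj.pow_comp, Category.id_comp], hmul⟩

/-- Powers are right cancellable. -/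
theorem pow_injective (G : Over (Spec (CommRingCat.of k))) [GrpObj G] [IsCommMonObj G] [Smooth G.hom]
    [ConnectedSpace ↥G.left] (hG : SGA7.FibresUnipotentRankZero G) (n : ℕ) (hn : 0 < n) (a b : G ⟶ G) [IsMonHom a] [IsMonHom b]
    (h : a ^ n = b ^ n) : a = b := by
  haveI := surjective_pow G hG n hn
  haveI : IsMonHom ((𝟙 G : G ⟶ G) ^ n) := Groth.Agent.AV.Isogeny.isMonHom_pow n
  haveI : IsReduced G.left := Groth.Agent.AV.isReduced_of_smooth_field G.hom
  haveI : Flat ((𝟙 G : G ⟶ G) ^ n).left := Groth.L08.FlatHom.flat_of_surjective G G _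
  haveI : Epi ((𝟙 G : G ⟶ G) ^ n).left :=
    haveI : LocallyOfFinitePresentation ((𝟙 G : G ⟶ G) ^ n).left := Groth.L19.SpecSub.lfp_hom_field _
    Flat.epi_of_flat_of_surjective _
  haveI : Epi ((𝟙 G : G ⟶ G) ^ n) := Over.epi_of_epi_left _
  rw [← cancel_epi ((𝟙 G : G ⟶ G) ^ n), MonObj.pow_comp, MonObj.pow_comp, Category.id_comp, Category.id_comp, h]

end Groth.L07.NoGaPow
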